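import Groth.Agent.RatDense.Stalk
import Groth.Agent.Depth.FlatLocal

/-! Extension of sections over points of codimension at most one. -/

set_option autoImplicit false
set_option linter.style.haveILetI false
set_option backward.isDefEq.respectTransparency false

universe u

open CategoryTheory CategoryTheory.Limits AlgebraicGeometry TopologicalSpace Opposite IsLocalRing

noncomputable section

namespace Groth.Agent.CodimOneLib

variable {X Y : Scheme.{u}}

theorem exists_lift_dvr (q : X ⟶ Y) (y : Y) [IsDomain (Y.presheaf.stalk y)]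
    [IsDiscreteValuationRing (Y.presheaf.stalk y)]
    (k : Spec (CommRingCat.of (FractionRing (Y.presheaf.stalk y))) ⟶ X)
    (hk : k ≫ q = Spec.map (CommRingCat.ofHom (algebraMap (Y.presheaf.stalk y) (FractionRing (Y.presheaf.stalk y)))) ≫
      Y.fromSpecStalk y)
    (z : X) (hz : k (closedPoint (CommRingCat.of (FractionRing (Y.presheaf.stalk y)))) ⤳ z) (hzy : q z = y) :
    ∃ l : Spec (Y.presheaf.stalk y) ⟶ X, l ≫ q = Y.fromSpecStalk y ∧
      Spec.map (CommRingCat.ofHom (algebraMap (Y.presheaf.stalk y) (FractionRing (Y.presheaf.stalk y)))) ≫ l = k := by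
  subst hzy
  let A := Y.presheaf.stalk (q z)
  let K := FractionRing A
  let alg : A ⟶ CommRingCat.of K := CommRingCat.ofHom (algebraMap A K)
  let χ : X.presheaf.stalk z ⟶ CommRingCat.of K := X.presheaf.stalkSpecializes hz ≫ Scheme.stalkClosedPointTo k
  have hχ : Spec.map χ ≫ X.fromSpecStalk z = k := by
    rw [Spec.map_comp, Category.assoc, Scheme.SpecMap_stalkSpecializes_fromSpecStalk]
    exact Scheme.Spec_stalkClosedPointTo_fromSpecStalk k
  let γ : A ⟶ X.presheaf.stalk z := q.stalkMap z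
  have hγq : Spec.map γ ≫ Y.fromSpecStalk (q z) = X.fromSpecStalk z ≫ q := Scheme.SpecMap_stalkMap_fromSpecStalk q
  have hγχ : γ ≫ χ = alg := by
    refine Spec.map_injective ?_
    rw [← cancel_mono (Y.fromSpecStalk (q z)), Spec.map_comp, Category.assoc, hγq, ← Category.assoc, hχ, hk]
  have hloc : ∀ c ∈ maximalIdeal A, γ c ∈ maximalIdeal (X.presheaf.stalk z) := by
    intro c hc hu
    exact hc (isUnit_of_map_unit (q.stalkMap z).hom c hu)
  have hrange : ∀ d, ∃ a, algebraMap A K a = χ d := by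
    intro d
    by_cases hb : χ d = 0
    · exact ⟨0, by rw [map_zero, hb]⟩
    rcases ValuationRing.isInteger_or_isInteger A (χ d : K) with ⟨a, ha⟩ | ⟨c, hc⟩
    · exact ⟨a, ha⟩
    · by_cases hu : IsUnit c
      · exact ⟨↑hu.unit⁻¹, by rw [map_units_inv, hu.unit_spec, hc, inv_inv]⟩
      · exfalso
        have he : γ c * d ∈ maximalIdeal (X.presheaf.stalk z) := Ideal.mul_mem_right _ _ (hloc c hu)
        have h1 : χ (γ c * d) = 1 := by
          rw [map_mul, ← CommRingCat.comp_apply, hγχ]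
          show algebraMap A K c * χ d = 1
          rw [hc, inv_mul_cancel₀ hb]
        have h2 : IsUnit (γ c * d - 1) := by
          by_contra hn
          have h3 := sub_mem he hn
          rw [sub_sub_cancel] at h3
          exact h3 isUnit_one
        have h3 := h2.map χ.hom
        rw [map_sub, map_one] at h3
        erw [h1, sub_self] at h3
        exact not_isUnit_zero h3
  choose φ hφ using hrange
  have inj := IsFractionRing.injective A K
  let φ' : X.presheaf.stalk z ⟶ A := CommRingCat.ofHom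
    { toFun := φ
      map_one' := inj (by rw [hφ, map_one, map_one])
      map_mul' := fun a b => inj (by rw [hφ, map_mul, map_mul, hφ, hφ])
      map_zero' := inj (by rw [hφ, map_zero, map_zero])
      map_add' := fun a b => inj (by rw [hφ, map_add, map_add, hφ, hφ]) }
  have hφχ : φ' ≫ alg = χ := CommRingCat.hom_ext (RingHom.ext hφ)
  refine ⟨Spec.map φ' ≫ X.fromSpecStalk z, ?_, ?_⟩
  · have hid : γ ≫ φ' = 𝟙 A := CommRingCat.hom_ext (RingHom.ext fun a => inj (by
      show (γ ≫ φ' ≫ alg) a = alg a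
      rw [hφχ, hγχ]))
    rw [Category.assoc, ← hγq, ← Category.assoc, ← Spec.map_comp, hid, Spec.map_id, Category.id_comp]
  · rw [← Category.assoc, ← Spec.map_comp, hφχ, hχ]

variable [IsLocallyNoetherian Y] [IsReduced Y]

theorem exists_section_nhd (f : X ⟶ Y) [IsSeparated f] [LocallyOfFiniteType f] (hcl : IsClosedMap f.base)
    (V : Y.Opens) (hV : Dense (V : Set Y)) (s : (V : Scheme.{u}) ⟶ X) (hs : s ≫ f = V.ι) (y : Y)
    (hdim : ringKrullDim (Y.presheaf.stalk y) ≤ 1) (hreg : IsRegularLocalRing (Y.presheaf.stalk y)) :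
    ∃ (W : Y.Opens) (w : (W : Scheme.{u}) ⟶ X), y ∈ W ∧ w ≫ f = W.ι ∧
      Y.homOfLE (inf_le_right : V ⊓ W ≤ W) ≫ w = Y.homOfLE (inf_le_left : V ⊓ W ≤ V) ≫ s := by
  by_cases hyV : y ∈ V
  · exact ⟨V, s, hyV, hs, by rfl⟩
  obtain ⟨_, ⟨A : Y.Opens, hA : IsAffineOpen A, rfl⟩, hyA, -⟩ := Y.isBasis_affineOpens.exists_subset_of_mem_open (Set.mem_univ y) isOpen_univ
  haveI : IsNoetherianRing Γ(Y, A) := IsLocallyNoetherian.component_noetherian ⟨A, hA⟩
  haveI : TopologicalSpace.NoetherianSpace A := noetherianSpace_of_isAffineOpen A hA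
  have hy' : (⟨y, hyA⟩ : A.toScheme) ∈ closure (Set.univ ∩ A.ι ⁻¹' (V : Set Y)) := by
    rw [Set.univ_inter, ← A.ι.isOpenEmbedding.isOpenMap.preimage_closure_eq_closure_preimage A.ι.continuous, hV.closure_eq]
    trivial
  obtain ⟨w, ⟨-, hwV⟩, hw⟩ := RatNormal.exists_specializes_of_mem_closure (α := A.toScheme) _ _
    isClosed_univ (V.2.preimage A.ι.continuous) hy'
  have hwy : A.ι w ⤳ y := hw.map A.ι.continuous
  obtain ⟨p, hp⟩ : A.ι w ∈ Set.range (Y.fromSpecStalk y) := by rw [Scheme.range_fromSpecStalk]; exact hwy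
  have hne : p ≠ closedPoint _ := fun e => hyV (by
    rw [e] at hp
    erw [Scheme.fromSpecStalk_closedPoint] at hp
    rw [hp]
    exact hwV)
  have hdim1 : ringKrullDim (Y.presheaf.stalk y) = 1 := by
    refine le_antisymm hdim (Order.succ_le_of_lt (lt_of_le_of_ne ringKrullDim_nonneg_of_nontrivial fun h0 => hne ?_) |>.trans' ?_)
    · haveI : Ring.KrullDimLE 0 (Y.presheaf.stalk y) := (Ring.krullDimLE_iff).2 h0.ge
      exact PrimeSpectrum.ext (IsLocalRing.eq_maximalIdeal (Ring.krullDimLE_zero_iff.1 inferInstance p.asIdeal p.isPrime))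
    · exact le_rfl
  obtain ⟨hdom, hdvr⟩ := Depth.exists_isDVR_iff.2 ⟨hreg, hdim1⟩
  let K := FractionRing (Y.presheaf.stalk y)
  let gen := Spec.map (CommRingCat.ofHom (algebraMap (Y.presheaf.stalk y) K))
  have hpbot : p.asIdeal = ⊥ := by
    by_contra hb
    refine hne (PrimeSpectrum.ext ?_)
    exact (IsLocalRing.eq_maximalIdeal (p.isPrime.isMaximal hb))
  have hgen : ∀ t, gen t = p := fun t => PrimeSpectrum.ext (by
    rw [hpbot]
    show (t : PrimeSpectrum K).asIdeal.comap (algebraMap (Y.presheaf.stalk y) K) = ⊥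
    rw [(Ideal.eq_bot_or_top (t : PrimeSpectrum K).asIdeal).resolve_right t.isPrime.ne_top,
      Ideal.comap_bot_of_injective _ (IsFractionRing.injective _ _)])
  have hrange : Set.range (gen ≫ Y.fromSpecStalk y) ⊆ Set.range V.ι := by
    rintro _ ⟨t, rfl⟩
    rw [Scheme.Opens.range_ι, Scheme.Hom.comp_apply, hgen]
    exact hp ▸ hwV
  let v := IsOpenImmersion.lift V.ι (gen ≫ Y.fromSpecStalk y) hrange
  have hv : v ≫ V.ι = gen ≫ Y.fromSpecStalk y := IsOpenImmersion.lift_fac _ _ _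
  let k := v ≫ s
  have hk : k ≫ f = gen ≫ Y.fromSpecStalk y := by rw [Category.assoc, hs, hv]
  obtain ⟨z, hz, hzy⟩ : ∃ z, k (closedPoint K) ⤳ z ∧ f z = y := by
    have h1 : f (k (closedPoint K)) ⤳ y := by
      rw [← Scheme.Hom.comp_apply, hk, Scheme.Hom.comp_apply, hgen]
      erw [hp]
      exact hwy
    obtain ⟨z, hz, hzy⟩ := h1.mem_closed (hcl (closure {k (closedPoint K)}) isClosed_closure)
      ⟨_, subset_closure rfl, rfl⟩
    exact ⟨z, specializes_iff_mem_closure.2 hz, hzy⟩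
  obtain ⟨l, hlf, hlk⟩ := exists_lift_dvr f y k hk z hz hzy
  haveI : LocallyOfFinitePresentation f := inferInstance
  obtain ⟨W, w', hyW, hw', hagree⟩ := RatDense.extends_of_extends_stalk (𝟙 Y) f (Or.inl inferInstance) V s
    (by rw [hs, Category.comp_id]) y l (by rw [hlf, Category.comp_id]) (by
      let P := pullback (Y.fromSpecStalk y) V.ι
      haveI : IsReduced (Spec (Y.presheaf.stalk y)) := inferInstance
      haveI : IsReduced P := isReduced_of_isOpenImmersion (pullback.fst (Y.fromSpecStalk y) V.ι)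
      let j : Spec (CommRingCat.of K) ⟶ P := pullback.lift gen v hv.symm
      haveI : Surjective j := ⟨fun q => by
        refine ⟨closedPoint K, (pullback.fst (Y.fromSpecStalk y) V.ι).isOpenEmbedding.injective ?_⟩
        rw [← Scheme.Hom.comp_apply, pullback.lift_fst]
        erw [hgen]
        refine PrimeSpectrum.ext ?_
        rw [hpbot]
        by_contra hb
        have hmax : pullback.fst (Y.fromSpecStalk y) V.ι q = closedPoint _ :=
          PrimeSpectrum.ext (IsLocalRing.eq_maximalIdeal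
            ((pullback.fst (Y.fromSpecStalk y) V.ι q).isPrime.isMaximal (Ne.symm hb)))
        have h2 := congrArg (fun φ : P ⟶ Y => φ q) (pullback.condition (f := Y.fromSpecStalk y) (g := V.ι))
        simp only [Scheme.Hom.comp_apply] at h2
        rw [hmax] at h2
        erw [Scheme.fromSpecStalk_closedPoint] at h2
        exact hyV (h2 ▸ (pullback.snd (Y.fromSpecStalk y) V.ι q).2)⟩
      refine ext_of_isDominant_of_isSeparated f ?_ j ?_
      · rw [Category.assoc, Category.assoc, hlf, hs, pullback.condition]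
      · rw [pullback.lift_fst_assoc, pullback.lift_snd_assoc, hlk])
  exact ⟨W, w', hyW, by rw [hw', Category.comp_id], hagree⟩

/-- A section over a dense open extends over all regular points of codimension at most one. -/
theorem exists_section_extend (f : X ⟶ Y) [IsSeparated f] [LocallyOfFiniteType f] (hcl : IsClosedMap f.base)
    (hreg : ∀ y : Y, ringKrullDim (Y.presheaf.stalk y) ≤ 1 → IsRegularLocalRing (Y.presheaf.stalk y))
    (V : Y.Opens) (hV : Dense (V : Set Y)) (s : (V : Scheme.{u}) ⟶ X) (hs : s ≫ f = V.ι) :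
    ∃ (U : Y.Opens) (hVU : V ≤ U) (s' : (U : Scheme.{u}) ⟶ X), s' ≫ f = U.ι ∧ Y.homOfLE hVU ≫ s' = s ∧
      ∀ y : Y, ringKrullDim (Y.presheaf.stalk y) ≤ 1 → y ∈ U := by
  let I := {p : Σ W : Y.Opens, (W : Scheme.{u}) ⟶ X // p.2 ≫ f = p.1.ι ∧
    Y.homOfLE (inf_le_right : V ⊓ p.1 ≤ p.1) ≫ p.2 = Y.homOfLE (inf_le_left : V ⊓ p.1 ≤ V) ≫ s}
  let F : I → Y.Opens := fun p => p.1.1
  have key : ∀ a b : I, Y.homOfLE (inf_le_left : F a ⊓ F b ≤ F a) ≫ a.1.2 =
      Y.homOfLE (inf_le_right : F a ⊓ F b ≤ F b) ≫ b.1.2 := by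
    intro a b
    let O := F a ⊓ F b
    haveI : IsReduced (O : Scheme.{u}) := isReduced_of_isOpenImmersion O.ι
    have hd : Dense ((O.ι ⁻¹ᵁ V : O.toScheme.Opens) : Set O.toScheme) :=
      hV.preimage O.ι.isOpenEmbedding.isOpenMap
    refine RatDense.eq_of_isSchematicallyDense f (RatDense.of_dense hd) _ _ ?_ ?_
    · rw [Category.assoc, Category.assoc, a.2.1, b.2.1, Scheme.homOfLE_ι, Scheme.homOfLE_ι]
    · have hr : Set.range ((O.ι ⁻¹ᵁ V).ι ≫ O.ι) ⊆ (V : Set Y) := by
        rintro _ ⟨t, rfl⟩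
        exact t.2
      have hga : ∀ (c : I) (e : O ≤ F c), (O.ι ⁻¹ᵁ V).ι ≫ Y.homOfLE e ≫ c.1.2 =
          IsOpenImmersion.lift V.ι ((O.ι ⁻¹ᵁ V).ι ≫ O.ι) (by rw [Scheme.Opens.range_ι]; exact hr) ≫ s := by
        intro c e
        have hr' : Set.range ((O.ι ⁻¹ᵁ V).ι ≫ O.ι) ⊆ Set.range (V ⊓ F c).ι := by
          rw [Scheme.Opens.range_ι]
          rintro _ ⟨t, rfl⟩
          exact ⟨t.2, e t.1.2⟩
        let m := IsOpenImmersion.lift (V ⊓ F c).ι _ hr'
        have e1 : (O.ι ⁻¹ᵁ V).ι ≫ Y.homOfLE e = m ≫ Y.homOfLE (inf_le_right : V ⊓ F c ≤ F c) := by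
          rw [← cancel_mono (F c).ι, Category.assoc, Category.assoc, Scheme.homOfLE_ι, Scheme.homOfLE_ι,
            IsOpenImmersion.lift_fac]
        have e2 : IsOpenImmersion.lift V.ι ((O.ι ⁻¹ᵁ V).ι ≫ O.ι) (by rw [Scheme.Opens.range_ι]; exact hr) =
            m ≫ Y.homOfLE (inf_le_left : V ⊓ F c ≤ V) := by
          rw [← cancel_mono V.ι, Category.assoc, Scheme.homOfLE_ι, IsOpenImmersion.lift_fac, IsOpenImmersion.lift_fac]
        rw [← Category.assoc, e1, e2, Category.assoc, Category.assoc, c.2.2]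
      rw [hga a inf_le_left, hga b inf_le_right]
  let 𝒰 := Scheme.Opens.iSupOpenCover F
  have hc : ∀ a b : I, pullback.fst (Y.homOfLE (le_iSup F a)) (Y.homOfLE (le_iSup F b)) ≫ a.1.2 =
      pullback.snd (Y.homOfLE (le_iSup F a)) (Y.homOfLE (le_iSup F b)) ≫ b.1.2 := fun a b => by
    rw [← cancel_epi (isPullback_opens_inf_le (le_iSup F a) (le_iSup F b)).isoPullback.hom,
      IsPullback.isoPullback_hom_fst_assoc, IsPullback.isoPullback_hom_snd_assoc]
    exact key a b
  let c := 𝒰.glueMorphisms (fun a : I => a.1.2) hc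
  let iV : I := ⟨⟨V, s⟩, hs, rfl⟩
  refine ⟨⨆ a, F a, le_iSup F iV, c, ?_, 𝒰.ι_glueMorphisms (fun a : I => a.1.2) hc iV, fun y hy => ?_⟩
  · refine 𝒰.hom_ext _ _ fun (a : I) => ?_
    rw [← Category.assoc, 𝒰.ι_glueMorphisms (fun a : I => a.1.2) hc a, a.2.1]
    exact (Y.homOfLE_ι (le_iSup F a)).symm
  · obtain ⟨W, w, hyW, hw, ha⟩ := exists_section_nhd f hcl V hV s hs y hy (hreg y hy)
    exact Opens.mem_iSup.2 ⟨⟨⟨W, w⟩, hw, ha⟩, hyW⟩

end Groth.Agent.CodimOneLib
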